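import Cfsg.Agent.H979.Ore.CoOneBd
import Cfsg.Agent.H561.AAM3
import Cfsg.Agent.BpSpor.MBigEleven
import Cfsg.Agent.H777.Ore.Base

/-!
# S2443, row M, piece MP2 (helper979)

* `card_inf_le` : `|C(z) ∩ C(x)| ≤ 6 |Suz|` for `x` of odd prime order in `C(z)`;
* `case_z` : the elements with a 2-central involution among their powers which are not 2-elements.
-/

set_option autoImplicit false

namespace Cfsg.Agent.H979.Ore.CaseZ

open Cfsg Subgroup
open Cfsg.Agent.LThreeMB (fr)
open Cfsg.Agent.BpSpor.MBigModel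
open Cfsg.Agent.H777.Ore
open Cfsg.Spor (Co1)

/-- **The order of `C(z) ∩ C(x)`.** -/
theorem card_inf_le {x : centralizer ({zz} : Set MG)} (hp : (orderOf x).Prime) (h2 : orderOf x ≠ 2) :
    Nat.card ↥(centralizer ({zz} : Set MG) ⊓ centralizer ({(x : MG)} : Set MG)) ≤ 2690072985600 := by
  have hfin := finite
  have hfc := BpSpor.MBigCo.finite_co1
  have hodd : Odd (orderOf x) := hp.odd_of_ne_two h2
  have hxp : x ^ orderOf x = 1 := pow_orderOf_eq_one x
  let f : ↥(centralizer ({zz} : Set MG) ⊓ centralizer ({(x : MG)} : Set MG)) →* Co1 :=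
    pi.comp (Subgroup.inclusion inf_le_left)
  have hpx : orderOf (pi x) = orderOf x := MFive.orderOf_pi chart hp hodd rfl
  have h1 : Nat.card f.range ≤ Nat.card ↥(centralizer ({pi x} : Set Co1)) := by
    refine Subgroup.card_le_of_le ?_
    rintro _ ⟨d, rfl⟩
    rw [mem_centralizer_singleton_iff]
    show pi (Subgroup.inclusion inf_le_left d) * pi x = pi x * pi (Subgroup.inclusion inf_le_left d)
    rw [← map_mul, ← map_mul]
    congr 1
    exact Subtype.ext (mem_centralizer_singleton_iff.1 d.2.2)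
  have h3 : Nat.card f.ker ≤ fr (pi x) * 2 := by
    rw [← H561.AAM3.card_CQ chart hodd hxp]
    refine Nat.card_le_card_of_injective (fun d : f.ker => ⟨((d : ↥(centralizer ({zz} : Set MG) ⊓
      centralizer ({(x : MG)} : Set MG))) : MG), mem_inf.2 ⟨?_, ?_⟩⟩) ?_
    · exact (chart.pi_eq_one _).1 ((MonoidHom.mem_ker).1 d.2)
    · exact d.1.2.2
    · intro d d' h
      have h' := congrArg Subtype.val h
      exact Subtype.ext (Subtype.ext h')
  have h4 : Nat.card ↥(centralizer ({zz} : Set MG) ⊓ centralizer ({(x : MG)} : Set MG)) =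
      Nat.card f.ker * Nat.card f.range := by
    rw [← Subgroup.card_mul_index f.ker, Subgroup.index_ker]
  rw [h4]
  exact (Nat.mul_le_mul h3 h1).trans (CoOneBd.bd (by rw [hpx]; exact hp) (by rw [hpx]; exact h2))

/-- an odd prime divisor -/
theorem exists_odd_prime {n : ℕ} (h0 : n ≠ 0) (h : ∀ k, n ≠ 2 ^ k) : ∃ p : ℕ, p.Prime ∧ p ≠ 2 ∧ p ∣ n := by
  by_contra hcon
  push Not at hcon
  apply h n.primeFactorsList.length
  exact Nat.eq_prime_pow_of_unique_prime_dvd h0 fun {d} hd hdn => by
    by_contra hne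
    exact hcon d hd hne hdn

/-- the order of the centralizer of an element with `z` and an element of odd prime order among its powers -/
theorem card_cent_le {g : MG} (hz : zz ∈ zpowers g) (h2 : ∀ k, orderOf g ≠ 2 ^ k) :
    Nat.card ↥(centralizer ({g} : Set MG)) ≤ 2690072985600 := by
  have hfin := finite
  obtain ⟨p, hp, hp2, hpg⟩ := exists_odd_prime (orderOf_pos g).ne' h2
  have hgz : g * zz = zz * g := by
    obtain ⟨k, hk⟩ := hz
    have hk' : g ^ k = zz := hk
    rw [← hk']
    exact ((Commute.refl g).zpow_right k).eq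
  obtain ⟨m, hm⟩ := hpg
  have hm0 : m ≠ 0 := by
    rintro rfl
    exact (orderOf_pos g).ne' (by rw [hm, mul_zero])
  have ho : orderOf (g ^ m) = p := by
    rw [orderOf_pow_of_dvd hm0 ⟨p, by rw [hm, mul_comm]⟩, hm]
    exact Nat.mul_div_cancel p (Nat.pos_of_ne_zero hm0)
  have hxz : g ^ m * zz = zz * g ^ m := ((show Commute g zz from hgz).pow_left m).eq
  let x : centralizer ({zz} : Set MG) := ⟨g ^ m, mem_centralizer_singleton_iff.2 hxz⟩
  have hx : orderOf x = p := by rw [← ho, ← Subgroup.orderOf_coe]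
  have hle : centralizer ({g} : Set MG) ≤ centralizer ({zz} : Set MG) ⊓ centralizer ({(x : MG)} : Set MG) := by
    intro c hc
    have hc' : Commute c g := mem_centralizer_singleton_iff.1 hc
    refine mem_inf.2 ⟨mem_centralizer_singleton_iff.2 ?_, mem_centralizer_singleton_iff.2 (hc'.pow_right m).eq⟩
    obtain ⟨k, hk⟩ := hz
    have hk' : g ^ k = zz := hk
    rw [← hk']
    exact (hc'.zpow_right k).eq
  exact (Subgroup.card_le_of_le hle).trans (card_inf_le (by rw [hx]; exact hp) (by rw [hx]; exact hp2))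

/-- **MP2.** -/
theorem case_z (hS : ∀ g : MG, Nat.card ↥(centralizer ({g} : Set MG)) ≤ 2690072985600 → IsC g) (g : MG)
    (hz : zz ∈ zpowers g) (h2 : ∀ k, orderOf g ≠ 2 ^ k) : IsC g :=
  hS g (card_cent_le hz h2)

end Cfsg.Agent.H979.Ore.CaseZ
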