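import Cfsg.Agent.H979.Ore.CaseZ

/-!
# S2443, row M: centralizers in `C(z)` (helper979)

* `card_CQ_le` : `|C_Q(c)| ≤ 2 fr(pi c)` for `c` in `C(z)`;
* `bound_z` : `|C(z) ∩ C(c)| ≤ 2 fr(pi c) |C(pi c)|`;
* `bound_pow` : the same with a power of `c` on the right;
* `card_cent_le` : `|C(g)| ≤ N` if `z` is a power of `g`, `pi g ≠ 1` and `N` bounds `2 fr(x) |C(x)|` for the elements
  of prime order of `Co1`.
-/

set_option autoImplicit false

namespace Cfsg.Agent.H979.Ore.BoundZ

open Cfsg Subgroup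
open Cfsg.Agent.LThreeMB (fr)
open Cfsg.Agent.MonsterU.Ch (Chart)
open Cfsg.Agent.MonsterU.Lam2 (L2)
open Cfsg.Agent.BpSpor.MBigModel (MG zz pi chart finite)
open Cfsg.Spor (Co1)

section chart

variable {G : Type*} [Group G] {Q : Subgroup G} {z : G} {eta : G → L2}
  {pi : Subgroup.centralizer ({z} : Set G) →* Co1}

/-- `|C_Q(c)| ≤ 2 fr(pi c)` -/
theorem card_CQ_le (h : Chart Q z eta pi) (c : Subgroup.centralizer ({z} : Set G)) :
    Nat.card ↥(Q ⊓ centralizer ({(c : G)} : Set G)) ≤ fr (pi c) * 2 := by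
  have hQ := h.fin
  have hfix : ∀ q : ↥(Q ⊓ centralizer ({(c : G)} : Set G)), pi c • eta (q : G) = eta (q : G) := by
    intro q
    rw [← h.eta_conj c q (mem_inf.1 q.2).1]
    congr 1
    rw [← mem_centralizer_singleton_iff.1 (mem_inf.1 q.2).2]
    group
  have hf : Finite ↥(Q ⊓ centralizer ({(c : G)} : Set G)) :=
    Finite.of_injective (fun q => (⟨q, (mem_inf.1 q.2).1⟩ : Q)) fun a b hab =>
      Subtype.ext (congrArg (fun x : Q => (x : G)) hab)
  classical
  let f : ↥(Q ⊓ centralizer ({(c : G)} : Set G)) → {v : L2 // pi c • v = v} := fun q => ⟨eta q, hfix q⟩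
  -- the fibres
  have hfib : ∀ v, Nat.card {q // f q = v} ≤ 2 := by
    intro v
    by_cases hne : Nonempty {q // f q = v}
    · obtain ⟨q₀, hq₀⟩ := hne
      have hsub : ∀ q : {q // f q = v}, (q : ↥(Q ⊓ centralizer ({(c : G)} : Set G))).1 = q₀.1 ∨
          (q : ↥(Q ⊓ centralizer ({(c : G)} : Set G))).1 = q₀.1 * z := by
        intro q
        refine (h.eta_eq (mem_inf.1 q.1.2).1 (mem_inf.1 q₀.2).1).1 ?_
        have h1 : f q.1 = f q₀ := q.2.trans hq₀.symm
        exact congrArg Subtype.val h1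
      have h2 : Nat.card {q // f q = v} ≤ Nat.card Bool := by
        refine Nat.card_le_card_of_injective
          (fun q => decide ((q : ↥(Q ⊓ centralizer ({(c : G)} : Set G))).1 = q₀.1)) ?_
        intro a b hab
        have hab' : (a.1.1 = q₀.1) ↔ (b.1.1 = q₀.1) := by simpa using hab
        rcases hsub a with ha | ha
        · exact Subtype.ext (Subtype.ext (ha.trans (hab'.1 ha).symm))
        · rcases hsub b with hb | hb
          · exact Subtype.ext (Subtype.ext ((hab'.2 hb).trans hb.symm))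
          · exact Subtype.ext (Subtype.ext (ha.trans hb.symm))
      simpa using h2
    · have : IsEmpty {q // f q = v} := not_nonempty_iff.1 hne
      rw [Nat.card_of_isEmpty]
      norm_num
  have hfv : Finite {v : L2 // pi c • v = v} := inferInstance
  have := Fintype.ofFinite {v : L2 // pi c • v = v}
  rw [← Nat.card_congr (Equiv.sigmaFiberEquiv f), Nat.card_sigma]
  refine (Finset.sum_le_card_nsmul _ _ 2 fun v _ => hfib v).trans ?_
  rw [smul_eq_mul, Finset.card_univ, ← Nat.card_eq_fintype_card]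
  exact le_rfl

/-- **`|C(z) ∩ C(c)| ≤ 2 fr(pi c) |C(pi c)|`** -/
theorem bound (h : Chart Q z eta pi) [Finite G] (c : Subgroup.centralizer ({z} : Set G)) :
    Nat.card ↥(centralizer ({z} : Set G) ⊓ centralizer ({(c : G)} : Set G)) ≤
      fr (pi c) * 2 * Nat.card ↥(centralizer ({pi c} : Set Co1)) := by
  have hfc := BpSpor.MBigCo.finite_co1
  let f : ↥(centralizer ({z} : Set G) ⊓ centralizer ({(c : G)} : Set G)) →* Co1 :=
    pi.comp (Subgroup.inclusion inf_le_left)
  have h1 : Nat.card f.range ≤ Nat.card ↥(centralizer ({pi c} : Set Co1)) := by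
    refine Subgroup.card_le_of_le ?_
    rintro _ ⟨d, rfl⟩
    rw [mem_centralizer_singleton_iff]
    show pi (Subgroup.inclusion inf_le_left d) * pi c = pi c * pi (Subgroup.inclusion inf_le_left d)
    rw [← map_mul, ← map_mul]
    congr 1
    exact Subtype.ext (mem_centralizer_singleton_iff.1 d.2.2)
  have h3 : Nat.card f.ker ≤ fr (pi c) * 2 := by
    refine le_trans ?_ (card_CQ_le h c)
    refine Nat.card_le_card_of_injective (fun d : f.ker => ⟨((d : ↥(centralizer ({z} : Set G) ⊓
      centralizer ({(c : G)} : Set G))) : G), mem_inf.2 ⟨?_, ?_⟩⟩) ?_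
    · exact (h.pi_eq_one _).1 ((MonoidHom.mem_ker).1 d.2)
    · exact d.1.2.2
    · intro d d' h
      have h' := congrArg Subtype.val h
      exact Subtype.ext (Subtype.ext h')
  have h4 : Nat.card ↥(centralizer ({z} : Set G) ⊓ centralizer ({(c : G)} : Set G)) =
      Nat.card f.ker * Nat.card f.range := by
    rw [← Subgroup.card_mul_index f.ker, Subgroup.index_ker]
  rw [h4]
  exact Nat.mul_le_mul h3 h1

/-- the same with a power -/
theorem bound_pow (h : Chart Q z eta pi) [Finite G] (c : Subgroup.centralizer ({z} : Set G)) (m : ℕ) :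
    Nat.card ↥(centralizer ({z} : Set G) ⊓ centralizer ({(c : G)} : Set G)) ≤
      fr (pi c ^ m) * 2 * Nat.card ↥(centralizer ({pi c ^ m} : Set Co1)) := by
  have h1 := bound h (c ^ m)
  rw [map_pow] at h1
  refine le_trans (Subgroup.card_le_of_le ?_) h1
  refine inf_le_inf le_rfl fun d hd => mem_centralizer_singleton_iff.2 ?_
  have hd' : Commute d (c : G) := mem_centralizer_singleton_iff.1 hd
  exact (hd'.pow_right m).eq

/-- the centralizer of an element with `z` among its powers -/
theorem card_cent_le_of (h : Chart Q z eta pi) [Finite G] {N : ℕ}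
    (hN : ∀ x : Co1, (orderOf x).Prime → fr x * 2 * Nat.card ↥(centralizer ({x} : Set Co1)) ≤ N)
    (c : Subgroup.centralizer ({z} : Set G)) (hz : z ∈ zpowers (c : G)) (hc : pi c ≠ 1) :
    Nat.card ↥(centralizer ({(c : G)} : Set G)) ≤ N := by
  have hfc := BpSpor.MBigCo.finite_co1
  obtain ⟨p, hp, hpd⟩ := Nat.exists_prime_and_dvd (n := orderOf (pi c)) fun h1 => hc (orderOf_eq_one_iff.1 h1)
  obtain ⟨m, hm⟩ := hpd
  have hm0 : m ≠ 0 := by
    rintro rfl
    exact (orderOf_pos (pi c)).ne' (by rw [hm, mul_zero])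
  have ho : orderOf (pi c ^ m) = p := by
    rw [orderOf_pow_of_dvd hm0 ⟨p, by rw [hm, mul_comm]⟩, hm]
    exact Nat.mul_div_cancel p (Nat.pos_of_ne_zero hm0)
  refine le_trans (Subgroup.card_le_of_le ?_) ((bound_pow h c m).trans (hN _ (by rw [ho]; exact hp)))
  intro d hd
  refine mem_inf.2 ⟨mem_centralizer_singleton_iff.2 ?_, hd⟩
  have hd' : Commute d (c : G) := mem_centralizer_singleton_iff.1 hd
  obtain ⟨k, hk⟩ := hz
  have hk' : (c : G) ^ k = z := hk
  rw [← hk']
  exact (hd'.zpow_right k).eq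

end chart

/-- **The Monster: `|C(z) ∩ C(c)| ≤ 2 fr(pi c) |C(pi c)|`.** -/
theorem bound_z (c : centralizer ({zz} : Set MG)) :
    Nat.card ↥(centralizer ({zz} : Set MG) ⊓ centralizer ({(c : MG)} : Set MG)) ≤
      fr (pi c) * 2 * Nat.card ↥(centralizer ({pi c} : Set Co1)) := by
  have hfin := finite
  exact bound chart c

/-- the same with a power on the right -/
theorem bound_z_pow (c : centralizer ({zz} : Set MG)) (m : ℕ) :
    Nat.card ↥(centralizer ({zz} : Set MG) ⊓ centralizer ({(c : MG)} : Set MG)) ≤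
      fr (pi c ^ m) * 2 * Nat.card ↥(centralizer ({pi c ^ m} : Set Co1)) := by
  have hfin := finite
  exact bound_pow chart c m

/-- **The elements with `z` among their powers, not in `Q`.** -/
theorem card_cent_le {N : ℕ}
    (hN : ∀ x : Co1, (orderOf x).Prime → fr x * 2 * Nat.card ↥(centralizer ({x} : Set Co1)) ≤ N)
    (c : centralizer ({zz} : Set MG)) (hz : zz ∈ zpowers (c : MG)) (hc : pi c ≠ 1) :
    Nat.card ↥(centralizer ({(c : MG)} : Set MG)) ≤ N := by
  have hfin := finite
  exact card_cent_le_of chart hN c hz hc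

/-- **Orders different from two.** -/
theorem card_cent_le' {N : ℕ} (hN0 : 2690072985600 ≤ N)
    (hN : ∀ x : Co1, orderOf x = 2 → fr x * 2 * Nat.card ↥(centralizer ({x} : Set Co1)) ≤ N)
    (c : centralizer ({zz} : Set MG)) (hz : zz ∈ zpowers (c : MG)) (hc : pi c ≠ 1) :
    Nat.card ↥(centralizer ({(c : MG)} : Set MG)) ≤ N := by
  refine card_cent_le (fun x hx => ?_) c hz hc
  by_cases h2 : orderOf x = 2
  · exact hN x h2
  · exact (CoOneBd.bd hx h2).trans hN0

end Cfsg.Agent.H979.Ore.BoundZ
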