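import Cfsg.Agent.H55.CoOneBd
import Cfsg.Agent.H849.StabCo3
import Cfsg.Agent.H49.CoStab
import Cfsg.Agent.ConwayFacts.AutCo1

/-!
# S2443, row M: the centralizers of the elements of odd prime order of `Co1` (helper979)

* `exists_three` : an element of odd order with a nonzero fixed point in `Λ / 2Λ` fixes a class of type 3;
* `le_of_fix` : `|C(s)| ≤ fr s * |C(s) ∩ Stab(v)|`;
* `bd` : `fr s * 2 * |C(s)| ≤ 6 |Suz|` for `s` of odd prime order.
-/

set_option autoImplicit false

namespace Cfsg.Agent.H979.Ore.CoOneBd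

open Cfsg Subgroup
open Cfsg.Agent.LThreeMB (fr XX Zx)
open Cfsg.Agent.MonsterU.Lam2
open Cfsg.Agent.H55.CoOneBd
open Cfsg.Spor (Co1)

/-- the number of fixed points -/
theorem fr_le (s : Co1) : fr s ≤ 2 ^ 24 := by
  rw [← card_L2]
  exact Nat.card_le_card_of_injective (fun v : {v : L2 // s • v = v} => (v : L2)) Subtype.val_injective

/-- **A fixed class of type 3.** -/
theorem exists_three {s : Co1} {n : ℕ} (hn : Odd n) (hs : s ^ n = 1) (h1 : fr s ≠ 1) :
    ∃ v : L2, s • v = v ∧ qf v = 1 := by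
  obtain ⟨v, hv, hv0⟩ : ∃ v : L2, s • v = v ∧ v ≠ 0 := by
    by_contra hcon
    push Not at hcon
    apply h1
    have : Unique {v : L2 // s • v = v} := ⟨⟨⟨0, smul_zero _⟩⟩, fun a => Subtype.ext (hcon a.1 a.2)⟩
    unfold fr
    exact Nat.card_unique
  by_contra hcon
  push Not at hcon
  have h0 : ∀ w : L2, s • w = w → qf w = 0 := fun w hw => by
    have h := hcon w hw
    revert h
    generalize qf w = a
    revert a
    decide
  have hb : ∀ w : L2, s • w = w → bf v w = 0 := fun w hw => by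
    have h := qf_add v w
    rw [h0 v hv, h0 w hw, h0 (v + w) (by rw [smul_add, hv, hw]), zero_add, zero_add] at h
    exact h.symm
  apply hv0
  apply bf_nondeg
  intro u
  let f : L2 →+ ZMod 2 := AddMonoidHom.mk' (fun u => bf v u) (bf_add_right v)
  have hpow : ∀ i : ℕ, s ^ i • v = v := fun i => by
    induction i with
    | zero => rw [pow_zero, one_smul]
    | succ i ih => rw [pow_succ, mul_smul, hv, ih]
  have hN : s • (∑ i ∈ Finset.range n, s ^ i • u) = ∑ i ∈ Finset.range n, s ^ i • u := by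
    rw [Finset.smul_sum]
    have e1 : ∀ i ∈ Finset.range n, s • (s ^ i • u) = s ^ (i + 1) • u := fun i _ => by
      rw [← mul_smul, ← pow_succ']
    rw [Finset.sum_congr rfl e1]
    have e2 := Finset.sum_range_succ (fun i => s ^ i • u) n
    have e3 := Finset.sum_range_succ' (fun i => s ^ i • u) n
    rw [e2, hs, pow_zero] at e3
    exact (add_right_cancel e3).symm
  have h2 := hb _ hN
  have h3 : f (∑ i ∈ Finset.range n, s ^ i • u) = bf v u := by
    rw [map_sum]
    have e1 : ∀ i ∈ Finset.range n, f (s ^ i • u) = bf v u := fun i _ => by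
      show bf v (s ^ i • u) = bf v u
      have e4 := bf_smul1 (s ^ i) v u
      rwa [hpow i] at e4
    rw [Finset.sum_congr rfl e1, Finset.sum_const, Finset.card_range, nsmul_eq_mul]
    have e5 : (n : ZMod 2) = 1 := (ZMod.natCast_eq_one_iff_odd).2 hn
    rw [e5, one_mul]
  rw [← h3]
  exact h2

/-- orbits in the fixed space -/
theorem le_of_fix {s : Co1} {v : L2} (hv : s • v = v) :
    Nat.card ↥(centralizer ({s} : Set Co1)) ≤
      fr s * Nat.card ↥(centralizer ({s} : Set Co1) ⊓ MulAction.stabilizer Co1 v) := by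
  have := finite_co1
  have h1 : Nat.card ↥(centralizer ({s} : Set Co1)) = (MulAction.orbit ↥(centralizer ({s} : Set Co1)) v).ncard *
      Nat.card ↥(MulAction.stabilizer ↥(centralizer ({s} : Set Co1)) v) := by
    rw [← MulAction.index_stabilizer, mul_comm, Subgroup.card_mul_index]
  have h2 : Nat.card ↥(MulAction.stabilizer ↥(centralizer ({s} : Set Co1)) v) =
      Nat.card ↥(centralizer ({s} : Set Co1) ⊓ MulAction.stabilizer Co1 v) :=
    Nat.card_congr
      { toFun := fun c => ⟨(c : ↥(centralizer ({s} : Set Co1))), c.1.2, c.2⟩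
        invFun := fun c => ⟨⟨c, c.2.1⟩, c.2.2⟩
        left_inv := fun _ => rfl
        right_inv := fun _ => rfl }
  rw [h1, h2]
  refine Nat.mul_le_mul_right _ ?_
  have h3 : MulAction.orbit ↥(centralizer ({s} : Set Co1)) v ⊆ {w : L2 | s • w = w} := by
    rintro _ ⟨c, rfl⟩
    show s • ((c : Co1) • v) = (c : Co1) • v
    rw [← mul_smul, ← mem_centralizer_singleton_iff.1 c.2, mul_smul, hv]
  refine (Set.ncard_le_ncard h3 (Set.toFinite _)).trans ?_
  rw [← Nat.card_coe_set_eq]
  exact le_rfl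

/-- the stabilizer of a class of type 3 -/
theorem card_stab {v : L2} (hv : qf v = 1) : Nat.card ↥(MulAction.stabilizer Co1 v) = 495766656000 := by
  have h3 : IsType 3 v := by
    rcases type_cases v with h | h | h | h
    · rw [h, qf_zero] at hv
      exact absurd hv (by decide)
    · rw [Cfsg.Agent.MonsterU.Ch.qf_of_type h] at hv
      exact absurd hv (by decide)
    · exact h
    · rw [Cfsg.Agent.MonsterU.Ch.qf_of_type h] at hv
      exact absurd hv (by decide)
  obtain ⟨g, hg⟩ := IsType.trans (Or.inr (Or.inl rfl)) H849.StabCo3.isType_V h3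
  have hg' : v = (QuotientGroup.mk g : Co1) • cl Spor.leechV := hg.symm
  rw [← H49.CoStab.card_co3]
  exact (Nat.card_congr (H849.StabCo3.stabEquiv.trans (MulAction.stabilizerEquivStabilizer hg')).toEquiv).symm

/-- a bound from a divisor of the order of the centralizer -/
theorem of_dvd {s : Co1} {n D E : ℕ} (hn : Odd n) (hs : s ^ n = 1) (h1 : fr s ≠ 1)
    (hD : Nat.card ↥(centralizer ({s} : Set Co1)) ∣ D) (hE : Nat.gcd D 495766656000 = E) (hE0 : E ≠ 0) :
    Nat.card ↥(centralizer ({s} : Set Co1)) ≤ fr s * E := by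
  have := finite_co1
  obtain ⟨v, hv, hq⟩ := exists_three hn hs h1
  refine (le_of_fix hv).trans (Nat.mul_le_mul_left _ (Nat.le_of_dvd (Nat.pos_of_ne_zero hE0) ?_))
  rw [← hE]
  refine Nat.dvd_gcd ((Subgroup.card_dvd_of_le inf_le_left).trans hD) ?_
  rw [← card_stab hq]
  exact Subgroup.card_dvd_of_le inf_le_right

/-! ### Order three -/

theorem bd_three {s : Co1} (hs : orderOf s = 3) :
    fr s * 2 * Nat.card ↥(centralizer ({s} : Set Co1)) ≤ 2690072985600 := by
  have hs3 : s ^ 3 = 1 := by rw [← hs, pow_orderOf_eq_one]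
  rcases LThreeCo1.Ranks.ranks s hs with h | h | h | h
  · rw [card_zero hs h, h]
  · have h1 : Nat.card ↥(centralizer ({s} : Set Co1)) ∣ 2 ^ 22 * 688905 := by
      obtain ⟨g, hg⟩ := LThreeCo1.Ranks.conj_rep LThreeCo1.Ranks.uniq6 hs h
      rw [card_cent_conj (isConj_iff.2 ⟨g, hg⟩)]
      refine (card_cent_dvd (n := 3) (by decide) (by rw [← LThreeCo1.Class.order_c6, pow_orderOf_eq_one])).trans ?_
      exact H55.CoOneLow.six_dvd LThreeCo1.Class.order_c6 LThreeCo1Six.Data.dx LThreeCo1Six.Data.reg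
    have h2 := of_dvd (n := 3) (by decide) hs3 (by rw [h]; norm_num) h1 (E := 78382080) (by norm_num) (by norm_num)
    rw [h] at h2 ⊢
    omega
  · obtain ⟨t, ht, hft, ⟨e⟩, -⟩ := LThreeMB.CEight.nine
    obtain ⟨g, hg⟩ := LThreeCo1.Ranks.eight s t hs ht h hft
    have h9 := LThreeCo1Twelve.Elim.card_alt 9 (by norm_num)
    have h9' : Nat.card ↥(alternatingGroup (Fin 9)) = 181440 := by
      have : (9 : ℕ).factorial = 362880 := by decide
      omega
    rw [card_cent_conj (isConj_iff.2 ⟨g, hg⟩), card_cent_XX, ht, Nat.card_congr e.toEquiv, h9', h]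
    norm_num
  · obtain ⟨t, ht, hft, hct, -⟩ := LThreeMB.CoOneFin.coOne.psu
    obtain ⟨g, hg⟩ := LThreeCo1.Ranks.twelve s t hs ht h hft
    obtain ⟨E, M, iE, iM, K, iK, iK', hEM, hE, hM, hK, ⟨e⟩⟩ := hct.chain
    have h1 : Nat.card ↥M = Nat.card (↥M ⧸ E.subgroupOf M) * Nat.card ↥(E.subgroupOf M) :=
      Subgroup.card_eq_card_quotient_mul_card_subgroup _
    rw [Nat.card_congr e.toEquiv, LThreeB.card_psu hK,
      Nat.card_congr (Subgroup.subgroupOfEquivOfLe hEM).toEquiv, hE] at h1
    have h2 := M.card_mul_index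
    rw [h1, hM] at h2
    rw [card_cent_conj (isConj_iff.2 ⟨g, hg⟩), card_cent_XX, ht, ← h2, h]
    norm_num

/-! ### Order five -/

theorem bd_five {s : Co1} (hs : orderOf s = 5) :
    fr s * 2 * Nat.card ↥(centralizer ({s} : Set Co1)) ≤ 2690072985600 := by
  have hs5 : s ^ 5 = 1 := by rw [← hs, pow_orderOf_eq_one]
  rcases CoFive.Ranks.ranks s hs with h | h | h
  · obtain ⟨e⟩ := MFive.JTwo.isoJ2 hs h
    have h2 : Nat.card Cfsg.Spor.J2 = 604800 := Cfsg.Agent.S1619.result.2.2.2
    rw [card_cent_XX, hs, Nat.card_congr e.toEquiv, h2, h]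
    norm_num
  · have h1 : Nat.card ↥(centralizer ({s} : Set Co1)) ∣ 2 ^ 22 * 455625 := by
      obtain ⟨a, rfl, ha, hao⟩ := exists_lift (by norm_num) (by norm_num) hs
      exact (card_cent_dvd (by decide) ha).trans (H55.CoOneLow.five_dvd hao (CoFiveC.Main.finrank_of_fr hao h))
    have h2 := of_dvd (n := 5) (by decide) hs5 (by rw [h]; norm_num) h1 (E := 93312000) (by norm_num) (by norm_num)
    rw [h] at h2 ⊢
    omega
  · rw [MFiveHN.UpEight.card_cent hs h, h]
    norm_num

/-! ### The other primes -/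

theorem bd_seven {s : Co1} (hs : orderOf s = 7) :
    fr s * 2 * Nat.card ↥(centralizer ({s} : Set Co1)) ≤ 2690072985600 := by
  obtain ⟨m, h0, hm, hd⟩ := H55.CoOneBd.bd_seven hs
  have h1 := Nat.le_of_dvd (by positivity) hd
  rcases CpAutMSeven.RanksH.ranks s hs with h | h <;> rw [h] <;> omega

theorem bd_small {s : Co1} {n : ℕ} (h : Nat.card ↥(centralizer ({s} : Set Co1)) ≤ n) (hn : n ≤ 80000) :
    fr s * 2 * Nat.card ↥(centralizer ({s} : Set Co1)) ≤ 2690072985600 := by
  have h1 := fr_le s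
  calc fr s * 2 * Nat.card ↥(centralizer ({s} : Set Co1)) ≤ 2 ^ 24 * 2 * 80000 :=
        Nat.mul_le_mul (Nat.mul_le_mul_right 2 h1) (h.trans hn)
    _ ≤ 2690072985600 := by norm_num

theorem bd_thirteen {s : Co1} (hs : orderOf s = 13) :
    fr s * 2 * Nat.card ↥(centralizer ({s} : Set Co1)) ≤ 2690072985600 := by
  obtain ⟨m, h0, hm, hd⟩ := H55.CoOneBd.bd_thirteen hs
  have h1 := Nat.le_of_dvd (by positivity) hd
  rw [BpSpor.MBigCo.fr_thirteen hs]
  omega

/-- **The elements of odd prime order.** -/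
theorem bd {s : Co1} (hr : (orderOf s).Prime) (h2 : orderOf s ≠ 2) :
    fr s * 2 * Nat.card ↥(centralizer ({s} : Set Co1)) ≤ 2690072985600 := by
  have h1 : orderOf s ∣ 4157776806543360000 := card_co1 ▸ orderOf_dvd_natCard s
  have h4 : (4157776806543360000 : ℕ) = 2 ^ 21 * (3 ^ 9 * (5 ^ 4 * (7 ^ 2 * (11 * (13 * 23))))) := by norm_num
  rw [h4] at h1
  have key : ∀ {q n : ℕ}, q.Prime → orderOf s ∣ q ^ n → orderOf s = q := fun hq h =>
    (Nat.prime_dvd_prime_iff_eq hr hq).1 (hr.dvd_of_dvd_pow h)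
  rcases (hr.dvd_mul).1 h1 with h | h
  · exact absurd (key (by norm_num) h) h2
  rcases (hr.dvd_mul).1 h with h | h
  · exact bd_three (key (by norm_num) h)
  rcases (hr.dvd_mul).1 h with h | h
  · exact bd_five (key (by norm_num) h)
  rcases (hr.dvd_mul).1 h with h | h
  · exact bd_seven (key (by norm_num) h)
  rcases (hr.dvd_mul).1 h with h | h
  · exact bd_small (BpSpor.MBigCo.card_cent ((Nat.prime_dvd_prime_iff_eq hr (by norm_num)).1 h)) (by norm_num)
  rcases (hr.dvd_mul).1 h with h | h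
  · exact bd_thirteen ((Nat.prime_dvd_prime_iff_eq hr (by norm_num)).1 h)
  · have hs := (Nat.prime_dvd_prime_iff_eq hr (by norm_num)).1 h
    obtain ⟨a, rfl, ha, hao⟩ := exists_lift (by norm_num) (by norm_num) hs
    have hfin := CoOneType.FrameFix.finite_co0
    have h1 := H604.Cop.Conway.card_cent_co0 hao
    have h2 := Nat.le_of_dvd Nat.card_pos (card_cent_dvd (by decide) ha)
    exact bd_small (h2.trans h1) (by norm_num)

end Cfsg.Agent.H979.Ore.CoOneBd
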